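import Cfsg.Agent.H545.EX.TitsL25
import Cfsg.Agent.H407.EPT.Cls

/-!
# S5745, the Tits group: the row `T = L₂(25)` for `Lie.TitsGroup` (helper545)
-/

set_option autoImplicit false

namespace Cfsg.Agent.H545.EX.LTwo

open Subgroup

theorem tits_25 [IsSimpleGroup Lie.TitsGroup] (F : Type) [Field F] [Fintype F] (hF : Fintype.card F = 25)
    (H N : Subgroup Lie.TitsGroup) (T : Type) [Group T] (e : N ≃* (Fin 1 → T)) (h : H209.EPX.EPS H N e)
    (hT : Nonempty (T ≃* Matrix.ProjectiveSpecialLinearGroup (Fin 2) F)) : False :=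
  row_25 H407.EPT.card_tits (fun _ hx => (H407.EPT.cent_three hx).le) F hF H N T e h hT

end Cfsg.Agent.H545.EX.LTwo
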