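import Cfsg.Agent.H545.EX.T25Syl
import Cfsg.Agent.H545.EX.CntAct
import Cfsg.Agent.H807.EPX.EPi
import Cfsg.Agent.H957.EPX.SocOf

/-!
# S5745, the Tits group: the row `T = L₂(25)` (helper545)

`no_25` : a simple group of order 17971200 with `|C(x)| ≤ 108` for the elements of order 3 has no extremely primitive
action with stabiliser of socle `PSL₂(25)`.
-/

set_option autoImplicit false

namespace Cfsg.Agent.H545.EX.LTwo

open Subgroup Matrix Cfsg.Agent.H417.EP MulAction
open Cfsg.Agent.H284
open Cfsg.Agent.H417.EP.Eleven (D)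
open Cfsg.Agent.H545.EX.Cnt

section

variable {F : Type*} [Field F] [Fintype F]

local notation "LL" => ProjectiveSpecialLinearGroup (Fin 2) F

theorem two_le_e3 {L : Type*} [Group L] [Finite L] {K : Subgroup L} (h : 3 ∣ Nat.card K) : 2 ≤ e3 K := by
  have : Fact (Nat.Prime 3) := ⟨Nat.prime_three⟩
  obtain ⟨x, hx⟩ := exists_prime_orderOf_dvd_card' (G := K) 3 h
  have hx' : orderOf (x : L) = 3 := by rw [Subgroup.orderOf_coe, hx]
  have hx3 : (x : L) ^ 3 = 1 := by rw [← hx']; exact pow_orderOf_eq_one _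
  have hx1 : (x : L) ≠ 1 := by
    intro h0
    rw [h0, orderOf_one] at hx'
    norm_num at hx'
  have hx2 : (x : L) ^ 2 ≠ 1 := by
    intro h0
    have := orderOf_dvd_of_pow_eq_one h0
    rw [hx'] at this
    norm_num at this
  have hne : (x : L) ≠ (x : L) ^ 2 := by
    intro h0
    apply hx1
    have h1 : (x : L) * 1 = x * x := by rw [mul_one, ← pow_two]; exact h0
    exact (mul_left_cancel h1).symm
  have h1 : ({(x : L), (x : L) ^ 2} : Set L) ⊆ {y | y ∈ K ∧ y ∈ D L 3} := by
    rintro y (rfl | rfl)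
    · exact ⟨x.2, hx1, hx3⟩
    · refine ⟨K.pow_mem x.2 2, hx2, ?_⟩
      rw [← pow_mul, mul_comm, pow_mul, hx3, one_pow]
  have h2 := Set.ncard_le_ncard h1 (Set.toFinite _)
  rwa [Set.ncard_pair hne] at h2

/-- `P ≤ N(P')` -/
theorem eq_of_le_norm {L : Type*} [Group L] [Finite L] {r : ℕ} [Fact r.Prime] {P P' : Sylow r L}
    (h : (P : Subgroup L) ≤ normalizer ((P' : Subgroup L) : Set L)) : P = P' := by
  have h1 := P.2.inf_normalizer_sylow P'
  have h2 : (P : Subgroup L) ≤ P' := by
    have h3 : (P : Subgroup L) = (P : Subgroup L) ⊓ normalizer ((P' : Subgroup L) : Set L) := (inf_eq_left.2 h).symm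
    rw [h3]
    exact h1.le.trans inf_le_right
  exact (Sylow.ext (P.3 P'.2 h2)).symm

theorem card_P5 (hF : Fintype.card F = 25) [Fact (Nat.Prime 5)] (P : Sylow 5 LL) : Nat.card (P : Subgroup LL) = 25 := by
  rw [P.card_eq_multiplicity, fact_five hF]
  norm_num

theorem fact_13 (hF : Fintype.card F = 25) : (Nat.card LL).factorization 13 = 1 := by
  rw [card_25 hF]
  have h1 : (7800 : ℕ) = 13 ^ 1 * 600 := by norm_num
  rw [h1, Nat.factorization_mul (by norm_num) (by norm_num), Nat.Prime.factorization_pow (by norm_num)]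
  simp [Nat.factorization_eq_zero_of_not_dvd (show ¬ 13 ∣ 600 by norm_num)]

theorem card_P13 (hF : Fintype.card F = 25) [Fact (Nat.Prime 13)] (P : Sylow 13 LL) :
    Nat.card (P : Subgroup LL) = 13 := by
  rw [P.card_eq_multiplicity, fact_13 hF, pow_one]

/-- **The count**: `L = PSL₂(25)` acts on `Ω` with one fixed point, all other stabilisers are admissible. -/
theorem count (hF : Fintype.card F = 25) {Ω : Type*} [Finite Ω] [MulAction LL Ω] (o : Ω) (ho : ∀ g : LL, g • o = o)
    (hadm : ∀ w : Ω, w ≠ o → Adm (stabilizer LL w)) :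
    (∃ k, (k + 1) % 13 = Nat.card Ω % 13 ∧ 300 * k + 1 ≤ Nat.card Ω) ∧
    (Nat.card Ω = 2304 → ∀ b : ℕ, (∀ x : LL, x ∈ D LL 3 → {w : Ω | w ≠ o ∧ x • w = w}.ncard ≤ b) →
      7150 ≤ 650 * b) := by
  classical
  have := Fintype.ofFinite Ω
  have : Fintype LL := Fintype.ofFinite _
  have h5 : Fact (Nat.Prime 5) := ⟨by norm_num⟩
  have h13 : Fact (Nat.Prime 13) := ⟨by norm_num⟩
  have hs := simple_25 hF
  obtain ⟨k, hk, hk'⟩ := sylow_count (L := LL) (r := 13) o ho (fun w hw P P' h h' =>
    Sylow.ext (unique_13 hF (hadm w hw).ne_top (card_P13 hF P) (card_P13 hF P') h h'))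
  rw [card_sylow_thirteen hF] at hk'
  set S13 : Set Ω := {w : Ω | w ≠ o ∧ ∃ P : Sylow 13 LL, (P : Subgroup LL) ≤ stabilizer LL w} with hS13
  have hle : 300 * k + 1 ≤ Nat.card Ω := by
    rw [← hk', ← Set.ncard_univ, ← Set.ncard_insert_of_notMem (a := o) (s := S13) (fun h => h.1 rfl) (Set.toFinite _)]
    exact Set.ncard_le_ncard (Set.subset_univ _) (Set.toFinite _)
  refine ⟨⟨k, hk, hle⟩, fun hn b hb => ?_⟩
  have hk2 : k = 2 := by omega
  rw [hk2] at hk'
  have hno : ∀ w : Ω, w ≠ o → ∀ P : Sylow 5 LL, (P : Subgroup LL) ≤ stabilizer LL w → 13 ∣ Nat.card (stabilizer LL w) →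
      False := by
    intro w hw P hP hd
    have h1 := le_26 hF (hadm w hw).ne_top hd
    have h2 := Subgroup.card_dvd_of_le hP
    rw [card_P5 hF] at h2
    have h3 : 25 * 13 ∣ Nat.card (stabilizer LL w) := Nat.Coprime.mul_dvd_of_dvd_of_dvd (by norm_num) h2 hd
    have h4 := Nat.le_of_dvd Nat.card_pos h3
    omega
  obtain ⟨k5, hk5, hk5'⟩ := sylow_count (L := LL) (r := 5) o ho (fun w hw P P' h h' => by
    rcases adm_25 hF (hadm w hw) with h1 | ⟨P₁, h1⟩ | ⟨-, h1⟩
    · exact (hno w hw P h h1).elim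
    · rw [h1] at h h'
      rw [eq_of_le_norm h, eq_of_le_norm h']
    · exfalso
      apply h1
      rw [← card_P5 hF P]
      exact Subgroup.card_dvd_of_le h)
  rw [card_sylow_five hF] at hk5'
  set S5 : Set Ω := {w : Ω | w ≠ o ∧ ∃ P : Sylow 5 LL, (P : Subgroup LL) ≤ stabilizer LL w} with hS5
  have hk53 : 3 ≤ k5 := by omega
  -- the pointwise inequality
  have hpt : ∀ w ∈ (Finset.univ.erase o : Finset Ω), 2 + (if w ∈ S5 then 48 else 0) ≤
      {x : LL | x ∈ stabilizer LL w ∧ x ∈ (D LL 3).toFinset}.ncard + (if w ∈ S13 then 2 else 0) := by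
    intro w hw
    have hw : w ≠ o := Finset.ne_of_mem_erase hw
    have he : {x : LL | x ∈ stabilizer LL w ∧ x ∈ (D LL 3).toFinset}.ncard = e3 (stabilizer LL w) := by
      rw [e3]
      congr 1
      ext x
      simp
    rw [he]
    by_cases h1 : w ∈ S13
    · have h2 : w ∉ S5 := by
        rintro ⟨-, P, hP⟩
        obtain ⟨-, P', hP'⟩ := h1
        refine hno w hw P hP ?_
        rw [← card_P13 hF P']
        exact Subgroup.card_dvd_of_le hP'
      rw [if_pos h1, if_neg h2]
      omega
    · rw [if_neg h1]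
      have h13' : ¬ 13 ∣ Nat.card (stabilizer LL w) := by
        intro hd
        apply h1
        obtain ⟨y, hy⟩ := exists_prime_orderOf_dvd_card' (G := stabilizer LL w) 13 hd
        have hcy : Nat.card (zpowers (y : LL)) = 13 ^ (Nat.card LL).factorization 13 := by
          rw [Nat.card_zpowers, Subgroup.orderOf_coe, hy, fact_13 hF, pow_one]
        refine ⟨hw, Sylow.ofCard (zpowers (y : LL)) hcy, ?_⟩
        change zpowers (y : LL) ≤ _
        rw [zpowers_le]
        exact y.2
      rcases adm_25 hF (hadm w hw) with h2 | ⟨P, h2⟩ | ⟨h2, h3⟩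
      · exact absurd h2 h13'
      · have h4 := fifty_le hF P
        rw [← h2] at h4
        split_ifs <;> omega
      · have h4 : w ∉ S5 := by
          rintro ⟨-, P, hP⟩
          apply h3
          rw [← card_P5 hF P]
          exact Subgroup.card_dvd_of_le hP
        rw [if_neg h4]
        have := two_le_e3 h2
        omega
  have hsum := Finset.sum_le_sum hpt
  rw [Finset.sum_add_distrib, Finset.sum_add_distrib, ← sum_fix] at hsum
  have hc : (Finset.univ.erase o : Finset Ω).card = 2303 := by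
    rw [Finset.card_erase_of_mem (Finset.mem_univ _), Finset.card_univ, ← Nat.card_eq_fintype_card, hn]
  have hi : ∀ (S : Set Ω) [DecidablePred (· ∈ S)] (c : ℕ), o ∉ S → ∑ w ∈ (Finset.univ.erase o : Finset Ω), (if w ∈ S then c else 0) = S.ncard * c := by
    intro S _ c hoS
    rw [← Finset.sum_filter, Finset.sum_const, smul_eq_mul]
    congr 1
    rw [← Set.ncard_coe_finset]
    congr 1
    ext w
    simp only [Finset.coe_filter, Finset.mem_erase, Finset.mem_univ, and_true, Set.mem_ofPred_eq]
    exact ⟨fun h => h.2, fun h => ⟨fun h0 => hoS (h0 ▸ h), h⟩⟩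
  rw [hi S5 48 (fun h => h.1 rfl), hi S13 2 (fun h => h.1 rfl), hk', hk5', Finset.sum_const, hc, smul_eq_mul] at hsum
  have hE : (D LL 3).toFinset.card ≤ 650 := by
    rw [← Set.ncard_eq_toFinset_card']
    have := three_le (F := F)
    rw [hF] at this
    exact this
  have hub : ∑ x ∈ (D LL 3).toFinset, {w : Ω | w ≠ o ∧ x • w = w}.ncard ≤ 650 * b := by
    refine (Finset.sum_le_card_nsmul _ _ b fun x hx => hb x (Set.mem_toFinset.1 hx)).trans ?_
    rw [smul_eq_mul]
    exact Nat.mul_le_mul_right _ hE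
  omega

variable {G : Type*} [Group G] [Finite G] {A : Subgroup G} {Γ : Subgroup (MulAut G)}

/-- **The Tits group, socle of the stabiliser `PSL₂(25)`.** -/
theorem no_25 (hF : Fintype.card F = 25) (hG : Nat.card G = 17971200)
    (hz3 : ∀ x : G, orderOf x = 3 → Nat.card (centralizer {x}) ≤ 108) (h : EPT A Γ) (hsoc : H419.EP.HasSoc A LL) :
    False := by
  classical
  have hdv := hsoc.card_dvd
  obtain ⟨φ, hφ⟩ := hsoc.exists_hom
  have hdv2 := Subgroup.card_dvd_of_injective φ hφ
  rw [card_aut_25 hF] at hdv2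
  rw [card_25 hF] at hdv
  obtain ⟨N, hNA, hN, hcent, ⟨e⟩⟩ := hsoc
  have := simple_25 hF
  have hna := ncomm_25 hF
  have hz : ∀ z : LL, (∀ x, z * x = x * z) → z = 1 := by
    intro z hz
    have h1 : z ∈ center LL := mem_center_iff.2 fun g => (hz g).symm
    rcases (inferInstance : (center LL).Normal).eq_bot_or_eq_top with h2 | h2
    · rwa [h2, mem_bot] at h1
    · exfalso
      obtain ⟨a, b, hab⟩ := hna
      have h3 : b ∈ center LL := by rw [h2]; exact mem_top b
      exact hab (mem_center_iff.1 h3 a)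
  have hOut := out_four hz (by rw [card_aut_25 hF, card_25 hF])
  have hi : Inv A Γ (emb e) := base_inv h hNA hN e hcent
  have hne : ∀ x, x ∉ A → tr (emb e) A x ≠ ⊥ := fun x hx => base_tr h hNA hN hna e hcent hOut hx
  let _ : MulAction LL (G ⧸ A) := MulAction.compHom (G ⧸ A) (emb e)
  have hsm : ∀ (l : LL) (w : G ⧸ A), l • w = emb e l • w := fun _ _ => rfl
  have ho : ∀ l : LL, l • ((1 : G) : G ⧸ A) = ((1 : G) : G ⧸ A) := by
    intro l
    rw [hsm]
    rw [H807.EPX.smul_mk_eq]
    rw [inv_one, one_mul, mul_one]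
    exact hi.mem l
  have hadm : ∀ w : G ⧸ A, w ≠ ((1 : G) : G ⧸ A) → Adm (stabilizer LL w) := by
    intro w hw
    obtain ⟨x, rfl⟩ := QuotientGroup.mk_surjective w
    have hx : x ∉ A := by
      intro hx
      apply hw
      rw [eq_comm, QuotientGroup.eq, inv_one, one_mul]
      exact hx
    have h1 : stabilizer LL (x : G ⧸ A) = tr (emb e) A x := by
      ext l
      rw [mem_stabilizer_iff, hsm, mem_tr]
      exact H807.EPX.smul_mk_eq
    rw [h1]
    exact adm_tr h hi hx (hne x hx)
  obtain ⟨⟨k, hk, hle⟩, hcnt⟩ := count hF (Ω := G ⧸ A) _ ho hadm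
  have hidx := A.card_mul_index
  rw [hG, ← Subgroup.index_eq_card] at *
  obtain ⟨j, hj⟩ := hdv
  have hj4 : j ∣ 4 := by
    rw [hj] at hdv2
    exact Nat.dvd_of_mul_dvd_mul_left (by norm_num : 0 < 7800) (by rw [mul_comm 7800 4]; exact hdv2)
  have hj4' : j = 1 ∨ j = 2 ∨ j = 4 := by
    have := Nat.le_of_dvd (by norm_num) hj4
    interval_cases j
    · norm_num at hj4
    · exact Or.inl rfl
    · exact Or.inr (Or.inl rfl)
    · norm_num at hj4
    · exact Or.inr (Or.inr rfl)
  rw [hj] at hidx
  rcases hj4' with rfl | rfl | rfl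
  · have hn : A.index = 2304 := by omega
    have h1 := hcnt hn 8 (by
      intro x hx
      have hx1 : emb e x ≠ 1 := by
        intro h0
        apply hx.1
        apply hi.inj
        rw [h0, map_one]
      have hx3 : orderOf (emb e x) = 3 := by
        refine orderOf_eq_prime ?_ hx1
        rw [← map_pow, hx.2, map_one]
      have h2 := H807.EPX.Fx_mul (H := A) (emb e x)
      have h3 := hz3 _ hx3
      have h4 : H807.EPX.Sec A (emb e x) ≤ 650 := by
        have h5 := three_le (F := F)
        rw [hF] at h5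
        have hNA' : N = A := Subgroup.eq_of_le_of_card_ge hNA (by
          rw [hj, Nat.card_congr e.toEquiv, card_25 hF])
        refine le_trans ?_ h5
        refine Set.ncard_le_ncard_of_injOn (fun y => if hy : y ∈ N then e ⟨y, hy⟩ else 1) ?_ ?_ (Set.toFinite _)
        · rintro y ⟨hy, hxy⟩
          have hyN : y ∈ N := by rw [hNA']; exact hy
          have ho3 : orderOf y = 3 := by
            obtain ⟨g, hg⟩ := isConj_iff.1 hxy
            rw [← hg, ← hx3]
            simpa using orderOf_injective (MulAut.conj g).toMonoidHom (MulAut.conj g).injective (emb e x)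
          simp only [dif_pos hyN]
          constructor
          · intro h0
            rw [MulEquiv.map_eq_one_iff] at h0
            have : y = 1 := congrArg Subtype.val h0
            rw [this, orderOf_one] at ho3
            norm_num at ho3
          · rw [← map_pow]
            have : (⟨y, hyN⟩ : N) ^ 3 = 1 := Subtype.ext (by
              rw [Subgroup.coe_pow, Subgroup.coe_one, ← ho3]
              exact pow_orderOf_eq_one y)
            rw [this, map_one]
        · rintro y ⟨hy, -⟩ z ⟨hz, -⟩ hyz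
          have hyN : y ∈ N := by rw [hNA']; exact hy
          have hzN : z ∈ N := by rw [hNA']; exact hz
          simp only [dif_pos hyN, dif_pos hzN] at hyz
          exact congrArg Subtype.val (e.injective hyz)
      have h5 : {w : G ⧸ A | w ≠ ((1 : G) : G ⧸ A) ∧ x • w = w}.ncard + 1 = H807.EPX.Fx A (emb e x) := by
        rw [H807.EPX.Fx]
        have : {c : G ⧸ A | emb e x • c = c} = insert ((1 : G) : G ⧸ A) {w : G ⧸ A | w ≠ ((1 : G) : G ⧸ A) ∧ x • w = w} := by
          ext w
          constructor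
          · intro hw
            by_cases hw1 : w = ((1 : G) : G ⧸ A)
            · exact Or.inl hw1
            · exact Or.inr ⟨hw1, hw⟩
          · rintro (rfl | ⟨-, hw⟩)
            · exact ho x
            · exact hw
        rw [this, Set.ncard_insert_of_notMem (fun h => h.1 rfl) (Set.toFinite _)]
      have h6 := Nat.mul_le_mul h3 h4
      rw [← h2, hj] at h6
      omega)
    omega
  · have hn : A.index = 1152 := by omega
    rw [hn] at hk hle
    omega
  · have hn : A.index = 576 := by omega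
    rw [hn] at hk hle
    omega

/-- the form of `H224.EPX.Rows.l25` -/
theorem row_25 {G : Type} [Group G] [Finite G] [IsSimpleGroup G] (hG : Nat.card G = 17971200)
    (hz3 : ∀ x : G, orderOf x = 3 → Nat.card (centralizer {x}) ≤ 108) (F : Type) [Field F] [Fintype F]
    (hF : Fintype.card F = 25) (H N : Subgroup G) (T : Type) [Group T] (e : N ≃* (Fin 1 → T))
    (h : H209.EPX.EPS H N e) (hT : Nonempty (T ≃* ProjectiveSpecialLinearGroup (Fin 2) F)) : False := by
  obtain ⟨i⟩ := hT
  exact no_25 hF hG hz3 (H957.EPX.ept_of_eps h) ((H957.EPX.hasSoc_of_eps h).congr i)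

end

end Cfsg.Agent.H545.EX.LTwo
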